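import Groth.Agent.Krr.H491.BottTodd
import Groth.Prelude.Def_W4bkmilneecrracsp2Inv

/-!
# `td(e) ch(λ_{-1}(e^∨)) = c^m(e)` for a positive element `e` of rank `m`
-/

set_option autoImplicit false
universe v

open scoped TensorProduct
open LambdaRing KGr

namespace K469.ToddTop

open Groth.Agent.Books.Lambda1 Groth.Agent.Books.Lambda2 Groth.Agent.Books.Lambda3
open Groth.Agent.Krr.H493.AdamsDiff Groth.Agent.Krr.H493.ChK Groth.Agent.Krr.H493.ChBij
open Groth.Agent.Krr.H493.Newton
open Groth.Agent.Krr.H500.GrK Groth.Agent.Krr.H493.GrBasis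
open Groth.Agent.Krr.H491.KQ Groth.Agent.Krr.H491.NilEval Groth.Agent.Krr.H491.Todd
open Groth.Agent.Krr.H491.ToddAlg Groth.Agent.Krr.H491.Bott Groth.Agent.Krr.H491.BottMul
open Groth.Agent.Krr.H491.BottTodd

section key

variable {K : Type v} [CommRing K] [LambdaRing.LambdaOps K] {P : LambdaRing.PosStructure K}

/-- an involution is additive on finite sums -/
lemma inv_sum {inv : K → K} (hV : IsInvolution P inv) {ι : Type*} (s : Finset ι) (x : ι → K) :
    inv (∑ i ∈ s, x i) = ∑ i ∈ s, inv (x i) := by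
  classical
  have h0 : inv 0 = 0 := by
    have := hV.map_add 0 0
    rw [add_zero] at this
    exact left_eq_add.mp this
  induction s using Finset.induction_on with
  | empty => simpa using h0
  | insert a s ha ih => rw [Finset.sum_insert ha, Finset.sum_insert ha, hV.map_add, ih]

lemma powersetCard_univ_self {m : ℕ} {R : Type*} [CommRing R] (u : Fin m → R) :
    ∑ t ∈ Finset.powersetCard m (Finset.univ : Finset (Fin m)), ∏ i ∈ t, u i = ∏ i, u i := by
  have h2 : Finset.powersetCard m (Finset.univ : Finset (Fin m)) = {Finset.univ} := by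
    have := Finset.powersetCard_self (Finset.univ : Finset (Fin m))
    rwa [Finset.card_univ, Fintype.card_fin] at this
  rw [h2, Finset.sum_singleton]

/-- the multiset of line elements splitting a positive element, indexed by `Fin` -/
lemma exists_fin_of_multiset {L : Type v} [CommRing L] [LambdaRing.LambdaOps L]
    (PL : LambdaRing.PosStructure L) (s : Multiset L) (hs : ∀ v ∈ s, PL.IsLine v) {m : ℕ}
    (hm : (PL.aug s.sum).toNat = m) :
    ∃ u : Fin m → L, (∀ i, PL.IsLine (u i)) ∧ ∑ i, u i = s.sum := by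
  have hcard : Multiset.card s = m := by
    rw [aug_multiset_sum PL s hs] at hm
    simpa using hm
  clear hm
  induction s using Quot.induction_on with
  | h l =>
    have hl : l.length = m := by simpa using hcard
    clear hcard
    subst hl
    refine ⟨l.get, ?_, ?_⟩
    · intro i
      apply hs
      simp
    · rw [← List.sum_ofFn, List.ofFn_get]
      simp

/-- `λ^m(e) λ_{-1}(e^∨) = γ^m(e - m)` for `e` positive of rank `m` -/
theorem lam_mul_lamAlt_inv {inv : K → K} (hS : HasInvSplitting P inv)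
    (e : K) (he : e ∈ P.pos) {m : ℕ} (hm : P.aug e = m) :
    LambdaOps.lam m e * KRR.lamAlt P (inv e) = gamma m (e - (m : K)) := by
  obtain ⟨L, inv', f, hf, hV', hinv, s, hs, hsum⟩ := hS e he
  obtain ⟨u, hu, husum⟩ := exists_fin_of_multiset L.posStr s hs (m := m) (by
    rw [hsum, hf.aug_comp, hm, Int.toNat_natCast])
  rw [hsum] at husum
  apply hf.injective
  have hu' : ∀ i, L.posStr.IsLine (inv' (u i)) := fun i => hV'.inv_line _ (hu i)
  have hinvs : f (inv e) = ∑ i, inv' (u i) := by
    rw [hinv, ← husum, inv_sum hV']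
  rw [map_mul, hf.isLambdaHom, map_lamAlt hf, map_gamma hf.isLambdaHom, map_sub, map_natCast,
    hinvs, ← husum, lamAlt_sum_line _ _ hu', lam_sum_line _ u hu,
    gamma_sum_line L.posStr u hu, powersetCard_univ_self,
    powersetCard_univ_self (fun i => u i - 1), ← Finset.prod_mul_distrib]
  apply Finset.prod_congr rfl
  intro i _
  have := hV'.inv_mul_self _ (hu i)
  linear_combination -this

end key

section newton

variable {R : Type*} [CommRing R] [Algebra ℚ R]

/-- in a `ℚ`-algebra the sequence of "elementary symmetric functions" is determined by the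
sequence of "power sums" -/
lemma IsNewton.unique' {d : ℕ} {a b p : ℕ → R} (ha : IsNewton d a p) (hb : IsNewton d b p) :
    ∀ n, 1 ≤ n → n ≤ d → a n = b n := by
  intro n
  induction n using Nat.strong_induction_on with
  | _ n ih =>
    intro h1 h2
    have h3 := ha n h1 h2
    have h4 := hb n h1 h2
    have h5 : ∑ q ∈ Finset.antidiagonal n with q.1 ∈ Set.Ioo 0 n, (-1) ^ q.1 * a q.1 * p q.2 =
        ∑ q ∈ Finset.antidiagonal n with q.1 ∈ Set.Ioo 0 n, (-1) ^ q.1 * b q.1 * p q.2 := by
      apply Finset.sum_congr rfl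
      rintro ⟨i, j⟩ hij
      rw [Finset.mem_filter, Finset.mem_antidiagonal] at hij
      obtain ⟨h6, h7, h8⟩ := hij
      dsimp only at h6 h7 h8 ⊢
      rw [ih i (by omega) (by omega) (by omega)]
    rw [h5] at h3
    have h6 : (n : R) * a n = (n : R) * b n := by
      have h7 : (-1 : R) ^ (n + 1) * n * a n = (-1) ^ (n + 1) * n * b n := by
        linear_combination h4 - h3
      have h8 : ((-1 : R) ^ (n + 1)) * (-1) ^ (n + 1) = 1 := by
        rw [← mul_pow]; simp
      calc (n : R) * a n = ((-1 : R) ^ (n + 1)) * ((-1) ^ (n + 1) * n * a n) := by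
            linear_combination (-(n : R) * a n) * h8
        _ = ((-1 : R) ^ (n + 1)) * ((-1) ^ (n + 1) * n * b n) := by rw [h7]
        _ = (n : R) * b n := by linear_combination ((n : R) * b n) * h8
    exact (isUnit_natCast h1).mul_left_cancel h6

omit [Algebra ℚ R] in
/-- the top coefficient of `∏ (1 + w_i t)` -/
lemma coeff_prod_linear {m : ℕ} (w : Fin m → R) :
    PowerSeries.coeff m (∏ i, (1 + PowerSeries.C (w i) * PowerSeries.X)) = ∏ i, w i := by
  rw [Finset.prod_one_add, map_sum]
  have h3 : ∀ t : Finset (Fin m), PowerSeries.coeff m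
      (∏ i ∈ t, (PowerSeries.C (w i) * PowerSeries.X)) =
      if t.card = m then ∏ i ∈ t, w i else 0 := by
    intro t
    rw [Finset.prod_mul_distrib, ← map_prod, Finset.prod_const, PowerSeries.coeff_C_mul,
      PowerSeries.coeff_X_pow]
    split_ifs with h h' h'
    · simp
    · exact absurd h.symm h'
    · exact absurd h'.symm h
    · simp
  simp only [h3]
  rw [← Finset.sum_filter]
  have : Finset.filter (fun t : Finset (Fin m) => t.card = m)
      (Finset.univ : Finset (Fin m)).powerset = {Finset.univ} := by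
    ext t
    simp only [Finset.mem_filter, Finset.mem_powerset, Finset.subset_univ, true_and,
      Finset.mem_singleton]
    rw [← Finset.card_eq_iff_eq_univ, Fintype.card_fin]
  rw [this, Finset.sum_singleton]

omit [Algebra ℚ R] in
lemma constantCoeff_linear (w : R) :
    PowerSeries.constantCoeff (1 + PowerSeries.C w * PowerSeries.X : PowerSeries R) = 1 := by
  simp

/-- if the images of the power sums are the power sums of `w`, then the image of the top
elementary symmetric function is the product of `w` -/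
lemma eq_prod_of_newton {m : ℕ} (hm : 1 ≤ m) (w : Fin m → R) {a p : ℕ → R}
    (ha : IsNewton m a p) (hp : ∀ n, 1 ≤ n → n ≤ m → p n = ∑ i, w i ^ n) :
    a m = ∏ i, w i := by
  set A : PowerSeries R := ∏ i, (1 + PowerSeries.C (w i) * PowerSeries.X) with hA
  have hA1 : PowerSeries.constantCoeff A = 1 := by
    rw [hA, map_prod]
    exact Finset.prod_eq_one (fun i _ => constantCoeff_linear (w i))
  have h1 := isNewton_pw hA1 m
  have h2 : ∀ n, 1 ≤ n → n ≤ m → PowerSeries.coeff n (pw A) = p n := by
    intro n hn hn2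
    rw [hp n hn hn2, hA, pw_prod _ _ (fun i _ => constantCoeff_linear (w i)), map_sum]
    exact Finset.sum_congr rfl (fun i _ => coeff_pw_linear (w i) n (by omega))
  have h3 : IsNewton m (fun n => PowerSeries.coeff n A) p :=
    h1.congr (fun n _ _ => rfl) h2
  rw [IsNewton.unique' ha h3 m hm le_rfl, hA, coeff_prod_linear]

end newton

section ev

variable {R : Type*} [CommRing R] [Algebra ℚ R]

/-- `β(w) (e^w - 1) = w e^w` -/
lemma ev_bet_mul {w : R} (hw : IsNilpotent w) :
    ev w hw bet * (IsNilpotent.exp w - 1) = w * IsNilpotent.exp w := by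
  have h := congrArg (ev w hw) (bernoulli'PowerSeries_mul_exp_sub_one ℚ)
  rw [map_mul, map_sub, map_one, map_mul, ev_exp, ev_X] at h
  exact h

end ev

section main

variable {K : Type v} [CommRing K] [LambdaRing.LambdaOps K] {P : LambdaRing.PosStructure K}
  (hK : HasSplitting K P) {d : ℕ} (hd : gammaFiltration P (d + 1) = ⊥)

include hK hd in
/-- if `λ^m(e) y = γ^m(e - m)` for `e` positive of rank `m`, then `td(e) ch(y) = c^m(e)` -/
theorem tdK_mul_chK (e y : K) (he : e ∈ P.pos) {m : ℕ} (hm : P.aug e = m)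
    (hy : LambdaOps.lam m e * y = gamma m (e - (m : K))) :
    tdK P d e * chK P d y = chern P m e := by
  classical
  have hm1 : 1 ≤ m := by
    have := P.aug_pos e he
    omega
  obtain ⟨L', hL, f, hf, u, hu, husum⟩ := exists_split_fin P hK e he m (by rw [hm]; simp)
  have hnil : ∀ i, IsNilpotent (u i - 1) := isNilpotent_root P hd hf e u hu husum
  have hlog : ∀ i, ∃ w : ℚ ⊗[ℤ] L'.carrier, IsNilpotent w ∧
      IsNilpotent.exp w = (1 : ℚ) ⊗ₜ[ℤ] u i := by
    intro i
    apply exists_log'
    have h1 : ((1 : ℚ) ⊗ₜ[ℤ] u i - 1 : ℚ ⊗[ℤ] L'.carrier) = (1 : ℚ) ⊗ₜ[ℤ] (u i - 1) := by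
      rw [TensorProduct.tmul_sub]
      rfl
    rw [h1]
    exact (hnil i).map (Algebra.TensorProduct.includeRight : L'.carrier →ₐ[ℤ] ℚ ⊗[ℤ] L'.carrier)
  choose w hw hwu using hlog
  have hψ : ∀ i, psiQ L'.posStr hL 2 (w i) = (2 : ℚ) • w i := fun i =>
    psiQ_log hL (hu i) (hw i) (hwu i) 2
  have hfe : (1 : ℚ) ⊗ₜ[ℤ] f e = ∑ i, IsNilpotent.exp (w i) := by
    rw [← husum, TensorProduct.tmul_sum]
    exact Finset.sum_congr rfl (fun i _ => (hwu i).symm)
  have htd : mapQ f ((PhiA P hK hd).symm (tdK P d e)) = ∏ i, ev (w i) (hw i) bet :=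
    mapQ_tdK hK hd hL w hw hψ e hfe hf
  -- the top Chern class
  have hps : ∀ n, mapQ f ((PhiA P hK hd).symm (ps P n e)) = ∑ i, w i ^ n := by
    intro n
    have h2 : (n.factorial : ℚ) ≠ 0 := by positivity
    rw [ps_eq_smul_ch P hK, map_smul, map_smul, mapQ_ch hK hd hL w hw hψ e hfe n hf, smul_smul,
      mul_inv_cancel₀ h2, one_smul]
  have hchern : mapQ f ((PhiA P hK hd).symm (chern P m e)) = ∏ i, w i := by
    have h1 := (isNewton_grK P hK m e).map
      ((mapQ f).comp (PhiA P hK hd).symm.toAlgHom : Gr P →ₐ[ℚ] ℚ ⊗[ℤ] L'.carrier).toRingHom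
    exact eq_prod_of_newton hm1 w h1 (fun n _ _ => hps n)
  -- the identity for `y`
  have hmapy : (∏ i, IsNilpotent.exp (w i)) * mapQ f ((1 : ℚ) ⊗ₜ[ℤ] y) =
      ∏ i, (IsNilpotent.exp (w i) - 1) := by
    have h1 := congrArg f hy
    rw [map_mul, hf.isLambdaHom, ← husum, lam_sum_line _ u hu, powersetCard_univ_self,
      map_gamma hf.isLambdaHom, map_sub, map_natCast, ← husum, gamma_sum_line L'.posStr u hu,
      powersetCard_univ_self (fun i => u i - 1)] at h1
    have h2 := congrArg (Algebra.TensorProduct.includeRight :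
        L'.carrier →ₐ[ℤ] ℚ ⊗[ℤ] L'.carrier) h1
    rw [map_mul, map_prod, map_prod] at h2
    have h3 : ∀ i, (Algebra.TensorProduct.includeRight :
        L'.carrier →ₐ[ℤ] ℚ ⊗[ℤ] L'.carrier) (u i) = IsNilpotent.exp (w i) :=
      fun i => (hwu i).symm
    simp only [map_sub, map_one, h3] at h2
    exact h2
  -- conclusion
  have hfin : mapQ f ((PhiA P hK hd).symm (tdK P d e * chK P d y)) =
      mapQ f ((PhiA P hK hd).symm (chern P m e)) := by
    rw [hchern, map_mul, map_mul, htd, ← PhiA_one_tmul P hK hd, AlgEquiv.symm_apply_apply]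
    have h6 : IsUnit (∏ i, IsNilpotent.exp (w i)) := by
      rw [IsUnit.prod_univ_iff]
      intro i
      exact isUnit_iff_exists_inv.mpr ⟨_, exp_mul_exp_neg (hw i)⟩
    apply h6.mul_left_cancel
    calc (∏ i, IsNilpotent.exp (w i)) * ((∏ i, ev (w i) (hw i) bet) * mapQ f ((1 : ℚ) ⊗ₜ[ℤ] y)) =
        (∏ i, ev (w i) (hw i) bet) * ((∏ i, IsNilpotent.exp (w i)) *
          mapQ f ((1 : ℚ) ⊗ₜ[ℤ] y)) := by ring
      _ = (∏ i, ev (w i) (hw i) bet) * ∏ i, (IsNilpotent.exp (w i) - 1) := by rw [hmapy]
      _ = ∏ i, (w i * IsNilpotent.exp (w i)) := by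
          rw [← Finset.prod_mul_distrib]
          exact Finset.prod_congr rfl (fun i _ => ev_bet_mul (hw i))
      _ = (∏ i, IsNilpotent.exp (w i)) * ∏ i, w i := by
          rw [Finset.prod_mul_distrib, mul_comm]
  exact (PhiA P hK hd).symm.injective (mapQ_injective hf.injective hfin)

end main

end K469.ToddTop
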